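import Groth.Agent.ProjTwist.Tensor
import Groth.Agent.Props.GenLocus
import Groth.Agent.EulerChar.Rank
import Groth.Agent.CohDev.TensorCoh
import Groth.Agent.HomShQC.Stalk

/-!
# Multiplication of a coherent module by a section of an invertible module

`mulSec J s : J ⟶ J ⊗ M`: bijective on stalks over the locus `X_s`; off that locus it is not surjective
on the stalks where `J` is nonzero (Nakayama).
-/

universe u

open CategoryTheory CategoryTheory.Limits AlgebraicGeometry TopologicalSpace Opposite
open Groth.Agent.PullStalk.Sky Groth.Agent.PullStalk.Exact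
open Groth.Agent.QCoh Groth.Agent.Props.GenLocus
open Groth.Agent.KFlat.StalkTensor (stalkTensorEquiv stalkTensor_natural tensMap)
open MonoidalCategory
open scoped TensorProduct

set_option linter.style.haveILetI false

noncomputable section

namespace Groth.Agent.HilbPolyX

variable {X : Scheme.{u}} (J : X.Modules) {M : X.Modules} (s : Coh.structureModule X ⟶ M)

/-- `J ⊗ O ≅ J`. -/
def unitIso (J : X.Modules) : CohDev.tens J (Coh.structureModule X) ≅ J :=
  ProjTwist.tensOne J

/-- `j ↦ j ⊗ s`. -/
def mulSec : J ⟶ CohDev.tens J M :=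
  (unitIso J).inv ≫ ((DCoh.tensorBi (X := X)).obj J).map s

/-- The stalk of `mulSec` is `id ⊗ s` up to isomorphisms. -/
theorem stalk_mulSec (y : X) :
    ∃ e : J.presheaf.stalk y ≃ₗ[X.presheaf.stalk y]
        J.presheaf.stalk y ⊗[X.presheaf.stalk y] (Coh.structureModule X).presheaf.stalk y,
      ∀ t, stalkTensorEquiv J M y (stalkLin (mulSec J s) y t) =
        (stalkLin s y).lTensor (J.presheaf.stalk y) (e t) := by
  let ι := (unitIso J).inv
  have hb : Function.Bijective (stalkLin ι y) := by
    refine Function.bijective_iff_has_inverse.2 ⟨stalkLin (unitIso J).hom y, fun t => ?_,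
      fun t => ?_⟩
    · rw [← CohDev.stalkLin_comp_apply, Iso.inv_hom_id, CohDev.stalkLin_id_apply]
    · rw [← CohDev.stalkLin_comp_apply, Iso.hom_inv_id, CohDev.stalkLin_id_apply]
  refine ⟨(LinearEquiv.ofBijective _ hb).trans (stalkTensorEquiv J (Coh.structureModule X) y),
    fun t => ?_⟩
  rw [mulSec, CohDev.stalkLin_comp_apply]
  exact LinearMap.congr_fun (congrArg ModuleCat.Hom.hom (KFlat.StalkCx.stIso_right y J s))
    (stalkLin ι y t)

/-- Over `X_s`, `s` is bijective on stalks. -/
theorem stalk_sec_bijective {y : X} (hy : y ∈ CohB1.genLocus M s) :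
    Function.Bijective (stalkLin s y) := by
  haveI : IsIso ((Scheme.Modules.restrictFunctor (CohB1.genLocus M s).ι).map s) :=
    (isIso_restrict_iff s _).mpr (isGen_genLocus s)
  exact CohDev.stalk_bijective_of_isIso_restrict (CohB1.genLocus M s).ι s
    (by rw [Scheme.Opens.range_ι]; exact hy)

/-- Off `X_s`, `s` lands in the maximal ideal times the stalk. -/
theorem stalk_sec_mem (hM : PicF.IsInvertible M) {y : X} (hy : y ∉ CohB1.genLocus M s)
    (t : (Coh.structureModule X).presheaf.stalk y) :
    stalkLin s y t ∈ IsLocalRing.maximalIdeal (X.presheaf.stalk y) •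
      (⊤ : Submodule (X.presheaf.stalk y) (M.presheaf.stalk y)) := by
  obtain ⟨U, e, hyU, he⟩ := exists_isGen hM y
  obtain ⟨f, hf, -⟩ := he.exists_eq le_rfl (sec s U)
  rw [res_self] at hf
  have hfy : ¬ IsUnit (X.presheaf.germ U y hyU f) := fun h => hy
    ((genLocus_inf he s hf).ge ((X.mem_basicOpen f y hyU).2 h)).1
  obtain ⟨V, hyV, a, rfl⟩ := exists_germM_eq (Coh.structureModule X) y t
  have key : ∀ (W : X.Opens) (hyW : y ∈ W) (_ : W ≤ U) (b : Γ(X, W)),
      stalkLin s y (germM (Coh.structureModule X) W y hyW b) ∈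
        IsLocalRing.maximalIdeal (X.presheaf.stalk y) •
          (⊤ : Submodule (X.presheaf.stalk y) (M.presheaf.stalk y)) := by
    intro W hyW hWU b
    refine (stalkLin_germ s W y hyW b).symm ▸ ?_
    rw [app_eq, germM_smul]
    refine Submodule.smul_mem _ _ ?_
    rw [← sec_res s hWU, hf, res_smul, germM_smul]
    refine Submodule.smul_mem_smul ?_ Submodule.mem_top
    rw [IsLocalRing.mem_maximalIdeal]
    intro h
    refine hfy ?_
    rw [← X.presheaf.germ_res_apply (homOfLE hWU) y hyW f]
    exact h
  have h1 : germM (Coh.structureModule X) V y hyV a = germM (Coh.structureModule X) (V ⊓ U) y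
      ⟨hyV, hyU⟩ (res (Coh.structureModule X) inf_le_left a) :=
    ((Coh.structureModule X).presheaf.germ_res_apply (homOfLE inf_le_left) y ⟨hyV, hyU⟩ a).symm
  rw [h1]
  exact key _ _ inf_le_right _

/-- Over `X_s`, `mulSec` is bijective on stalks. -/
theorem mulSec_bijective {y : X} (hy : y ∈ CohB1.genLocus M s) :
    Function.Bijective (stalkLin (mulSec J s) y) := by
  obtain ⟨e, he⟩ := stalk_mulSec J s y
  have hb : Function.Bijective ((stalkLin s y).lTensor (J.presheaf.stalk y)) :=
    (TensorProduct.congr (LinearEquiv.refl _ _)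
      (LinearEquiv.ofBijective _ (stalk_sec_bijective s hy))).bijective
  have h : Function.Bijective fun t => stalkTensorEquiv J M y (stalkLin (mulSec J s) y t) := by
    rw [funext he]
    exact hb.comp e.bijective
  exact ((stalkTensorEquiv J M y).toEquiv.comp_bijective _).1 h

/-- Off `X_s`, `mulSec` is not surjective on the stalks where `J` is nonzero. -/
theorem mulSec_not_surjective (hM : PicF.IsInvertible M) (hJ : Coh.IsCoh J) {y : X}
    (hy : y ∉ CohB1.genLocus M s) (hne : y ∈ CohB1.support J) :
    ¬ Function.Surjective (stalkLin (mulSec J s) y) := by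
  intro hsurj
  let R := X.presheaf.stalk y
  let A := J.presheaf.stalk y
  let B := M.presheaf.stalk y
  obtain ⟨eB⟩ := EulerChar.stalk_ofRank (ProjTwist.isFinLocFreeOfRank_one hM) y
  haveI : Module.Finite R B := Module.Finite.equiv eB
  haveI : Module.Finite R A := HomShQC.finite_stalk J hJ.2 y
  obtain ⟨e, he⟩ := stalk_mulSec J s y
  let m := IsLocalRing.maximalIdeal R
  have hle : LinearMap.range ((stalkLin s y).lTensor A) ≤ m • (⊤ : Submodule R (A ⊗[R] B)) := by
    rintro _ ⟨z, rfl⟩
    induction z using TensorProduct.induction_on with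
    | zero => rw [map_zero]; exact zero_mem _
    | add a b ha hb => rw [map_add]; exact add_mem ha hb
    | tmul a t =>
      rw [LinearMap.lTensor_tmul]
      exact Submodule.smul_induction_on (stalk_sec_mem s hM hy t)
        (fun r hr b _ => by
          rw [TensorProduct.tmul_smul]
          exact Submodule.smul_mem_smul hr Submodule.mem_top)
        fun b b' hb hb' => by rw [TensorProduct.tmul_add]; exact add_mem hb hb'
  have htop : (⊤ : Submodule R (A ⊗[R] B)) ≤ m • (⊤ : Submodule R (A ⊗[R] B)) := by
    refine le_trans (fun z _ => ?_) hle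
    obtain ⟨t, ht⟩ := hsurj ((stalkTensorEquiv J M y).symm z)
    exact ⟨e t, by rw [← he, ht, LinearEquiv.apply_symm_apply]⟩
  have hbot : (⊤ : Submodule R (A ⊗[R] B)) = ⊥ :=
    Submodule.eq_bot_of_le_smul_of_le_jacobson_bot m _ Module.Finite.fg_top htop
      (IsLocalRing.maximalIdeal_le_jacobson _)
  haveI : Subsingleton (A ⊗[R] B) :=
    subsingleton_of_forall_eq 0 fun z => by
      simpa [hbot] using (Submodule.mem_top : z ∈ (⊤ : Submodule R (A ⊗[R] B)))
  exact hne ((((TensorProduct.congr (LinearEquiv.refl R A)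
    (eB.symm.trans (LinearEquiv.funUnique (Fin 1) R R))).trans
      (TensorProduct.rid R A)).symm).injective.subsingleton)

end Groth.Agent.HilbPolyX
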