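import Groth.Agent.HilbPolyX.Basic
import Groth.Agent.HilbPolyX.Section
import Groth.Agent.Props.AmpleBase
import Groth.Agent.EulerChar.Torsion
import Groth.Agent.CohDev.Gen
import Mathlib.Algebra.Polynomial.Taylor
import Mathlib.Algebra.Polynomial.HasseDeriv

/-!
# Positivity of the leading coefficient of the Hilbert polynomial for an ample module

For ample `L` and coherent `F` with support of dimension `d` the coefficient of degree `d` of the
Hilbert polynomial is positive.
-/

universe u

open CategoryTheory CategoryTheory.Limits AlgebraicGeometry TopologicalSpace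
open Groth.Agent.PullStalk.Sky Groth.Agent.PullStalk.Exact

set_option linter.style.haveILetI false

noncomputable section

namespace Groth.Agent.HilbPolyX

variable {X : Scheme.{u}}

/-- `L^a ⊗ L^b ≅ L^(a + b)`. -/
def powAdd (L : X.Modules) (a : ℕ) : (b : ℕ) →
    (CohB1.tensorMod (CohB1.tensorPow L a) (CohB1.tensorPow L b) ≅ CohB1.tensorPow L (a + b))
  | 0 => ProjTwist.tensOne _
  | b + 1 => (ProjTwist.tensAssoc (CohB1.tensorPow L a) (CohB1.tensorPow L b) L).symm ≪≫
      ProjTwist.tensCongr (powAdd L a b) (Iso.refl L)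

/-- The top coefficient after a translation. -/
theorem coeff_comp_add (P : Polynomial ℚ) (r : ℚ) (d : ℕ) (hP : P.natDegree ≤ d + 1) :
    (P.comp (Polynomial.X + Polynomial.C r)).coeff d =
      P.coeff d + (d + 1) * r * P.coeff (d + 1) := by
  rw [← Polynomial.taylor_apply, Polynomial.taylor_coeff]
  have h1 : (Polynomial.hasseDeriv d P).natDegree ≤ 1 :=
    (Polynomial.natDegree_hasseDeriv_le P d).trans (by omega)
  rw [Polynomial.eval_eq_sum_range' (n := 2) (Nat.lt_succ_of_le h1), Finset.sum_range_succ,
    Finset.sum_range_one, Polynomial.hasseDeriv_coeff, Polynomial.hasseDeriv_coeff]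
  simp only [zero_add, Nat.choose_self, pow_zero, pow_one, Nat.cast_one, one_mul, mul_one]
  rw [show 1 + d = d + 1 from add_comm 1 d, Nat.choose_succ_self_right]
  push_cast
  ring

/-- In a closed irreducible set of dimension `d + 1` there is a point with closure of dimension `d`. -/
theorem exists_point_dim {x : X} {d : ℕ}
    (hx : topologicalKrullDim ↥(closure ({x} : Set X)) = ((d + 1 : ℕ) : WithBot ℕ∞)) :
    ∃ y ∈ closure ({x} : Set X), y ≠ x ∧
      topologicalKrullDim ↥(closure ({y} : Set X)) = (d : WithBot ℕ∞) := by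
  let C : Set X := closure {x}
  obtain ⟨l, hl⟩ := Order.le_krullDim_iff.mp (le_of_eq hx.symm)
  let l' : LTSeries (IrreducibleCloseds X) :=
    l.map _ (IrreducibleCloseds.map_strictMono_of_isInducing Topology.IsInducing.subtypeVal)
  have hl' : l'.length = d + 1 := hl
  let Z : IrreducibleCloseds X := l'.eraseLast.last
  have hlt : Z < l'.last := by
    refine l'.strictMono (show (⟨_, _⟩ : Fin (l'.length + 1)) < Fin.last l'.length from ?_)
    rw [Fin.lt_def]
    simp only [Fin.val_last]
    have : l'.eraseLast.length = d := by show l'.length - 1 = d; omega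
    show l'.eraseLast.length < l'.length
    omega
  have hsub : (l'.last : Set X) ⊆ C := by
    show closure ((Subtype.val : ↥C → X) '' (l.last : Set ↥C)) ⊆ C
    refine closure_minimal ?_ isClosed_closure
    rintro _ ⟨z, -, rfl⟩
    exact z.2
  have hgen : closure {Z.isIrreducible.genericPoint} = (Z : Set X) :=
    Z.isIrreducible.closure_genericPoint Z.isClosed
  let y := Z.isIrreducible.genericPoint
  have hy : y ∈ C := hsub (hlt.le (by
    show y ∈ (Z : Set X)
    rw [← hgen]
    exact subset_closure rfl))
  have hne : y ≠ x := fun e => hlt.not_ge fun z hz => by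
    show z ∈ (Z : Set X)
    rw [← hgen]
    show z ∈ closure ({y} : Set X)
    rw [e]
    exact hsub hz
  refine ⟨y, hy, hne, le_antisymm ?_ ?_⟩
  · have h := CohDev.dim_closure_lt hy hne hx.le
    revert h
    cases topologicalKrullDim ↥(closure ({y} : Set X)) with
    | bot => exact fun _ => bot_le
    | coe a =>
      intro h
      exact WithBot.coe_le_coe.2 (Order.le_of_lt_add_one (α := ℕ∞)
        (by exact_mod_cast WithBot.coe_lt_coe.1 h))
  · have := TopDimLib.length_le_of_subset l'.eraseLast (Y := closure ({y} : Set X)) hgen.ge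
    have hlen : l'.eraseLast.length = d := by show l'.length - 1 = d; omega
    rwa [hlen] at this

variable (k : Type u) [Field k] [X.Over (Spec (CommRingCat.of k))]
  [IsProper (X ↘ Spec (CommRingCat.of k))] {L : X.Modules}

/-- Positivity of the coefficient of degree `d` for supports of dimension `d`. -/
theorem coeff_pos (hL : CohB1.IsAmple L) : ∀ (d : ℕ) {F : X.Modules}, Coh.IsCoh F →
    ∀ {P : Polynomial ℚ}, ShStab.IsHilbPoly k X L F P →
      topologicalKrullDim ↥(CohB1.support F) = (d : WithBot ℕ∞) → 0 < P.coeff d := by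
  haveI := EulerChar.isNoetherian k (X := X)
  intro d
  induction d with
  | zero =>
    intro F hF P hP hd
    have hz : ¬ IsZero F := fun h => by
      have he : CohB1.support F = ∅ := Set.eq_empty_of_forall_notMem fun x hx =>
        hx (AddCommGrpCat.subsingleton_of_isZero
          ((Scheme.Modules.toPresheaf X ⋙ TopCat.Presheaf.stalkFunctor AddCommGrpCat.{u} x).map_isZero h))
      haveI : IsEmpty ↥(CohB1.support F) := Set.isEmpty_coe_sort.2 he
      haveI : IsEmpty (IrreducibleCloseds ↥(CohB1.support F)) :=
        ⟨fun s => isEmptyElim s.isIrreducible.1.some⟩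
      exact absurd (hd.symm.trans Order.krullDim_eq_bot) (by simp)
    have h0 : (Curv2.euler k X (ShStab.twist X L F 0) : ℚ) = P.coeff 0 := by
      rw [hP 0, Polynomial.coeff_zero_eq_eval_zero, Nat.cast_zero]
    have e : ShStab.twist X L F 0 ≅ F := ProjTwist.tensOne F
    rw [← h0, EulerChar.euler_iso k e]
    have h1 := EulerChar.euler_nonneg_of_support k hF hd.le
    have h2 : Curv2.euler k X F ≠ 0 := fun h =>
      hz (EulerChar.isZero_of_euler_eq_zero k hF hd.le h)
    exact_mod_cast lt_of_le_of_ne h1 h2.symm
  | succ d ih =>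
    intro F hF
    refine CohDev.devissage (fun F => ∀ {P : Polynomial ℚ}, ShStab.IsHilbPoly k X L F P →
      topologicalKrullDim ↥(CohB1.support F) = ((d + 1 : ℕ) : WithBot ℕ∞) → 0 < P.coeff (d + 1))
      (fun M hM P _ hd => ?_) (fun S hS h₁ h₂ h₃ p₁ p₃ P hP hd => ?_) (fun M hM hz => ?_) hF
    · have he : CohB1.support M = ∅ := Set.eq_empty_of_forall_notMem fun x hx =>
        hx (AddCommGrpCat.subsingleton_of_isZero
          ((Scheme.Modules.toPresheaf X ⋙ TopCat.Presheaf.stalkFunctor AddCommGrpCat.{u} x).map_isZero hM))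
      haveI : IsEmpty ↥(CohB1.support M) := Set.isEmpty_coe_sort.2 he
      haveI : IsEmpty (IrreducibleCloseds ↥(CohB1.support M)) :=
        ⟨fun s => isEmptyElim s.isIrreducible.1.some⟩
      exact absurd (hd.symm.trans Order.krullDim_eq_bot) (by simp)
    · haveI := hS.mono_f
      haveI := hS.epi_g
      obtain ⟨P₁, hP₁⟩ := exists_hilbPoly k hL.1 h₁
      obtain ⟨P₃, hP₃⟩ := exists_hilbPoly k hL.1 h₃
      rw [hilbPoly_add k hL.1 hS h₁ h₂ h₃ hP₁ hP hP₃, Polynomial.coeff_add]
      have hu : CohB1.support S.X₂ = CohB1.support S.X₁ ∪ CohB1.support S.X₃ :=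
        (CohDev.support_subset_union hS).antisymm (Set.union_subset
          (CohDev.support_subset_of_mono S.f) (CohDev.support_subset_of_epi S.g))
      rw [hu, dim_union (CohDev.isClosed_support h₁) (CohDev.isClosed_support h₃)] at hd
      have key : ∀ {M : X.Modules} {Q : Polynomial ℚ}, Coh.IsCoh M → ShStab.IsHilbPoly k X L M Q →
          (topologicalKrullDim ↥(CohB1.support M) = ((d + 1 : ℕ) : WithBot ℕ∞) → 0 < Q.coeff (d + 1)) →
          topologicalKrullDim ↥(CohB1.support M) ≤ ((d + 1 : ℕ) : WithBot ℕ∞) → 0 ≤ Q.coeff (d + 1) := by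
        intro M Q hM hQ h hle
        rcases hle.eq_or_lt with h' | h'
        · exact (h h').le
        · exact (coeff_eq_zero k hL.1 hM hQ h' le_rfl).ge
      rcases max_eq_iff.mp hd with ⟨ha, hb⟩ | ⟨ha, hb⟩
      · exact add_pos_of_pos_of_nonneg (p₁ hP₁ ha) (key h₃ hP₃ (p₃ hP₃) (hb.trans ha.le))
      · exact add_pos_of_nonneg_of_pos (key h₁ hP₁ (p₁ hP₁) (hb.trans ha.le)) (p₃ hP₃ ha)
    · obtain ⟨x, J, f, hf, hJ⟩ := CohDev.exists_isPiece hM hz
      have hJs := hJ.support_subset
      obtain ⟨g, hg, hJc, hxJ⟩ := hJ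
      refine ⟨J, f, hf, hJc, fun h => hxJ (AddCommGrpCat.subsingleton_of_isZero
        ((Scheme.Modules.toPresheaf X ⋙ TopCat.Presheaf.stalkFunctor AddCommGrpCat.{u} x).map_isZero h)),
        fun {P} hP hd => ?_⟩
      have hsJ : CohB1.support J = closure {x} :=
        hJs.antisymm (closure_minimal (Set.singleton_subset_iff.mpr hxJ) (CohDev.isClosed_support hJc))
      have hdx : topologicalKrullDim ↥(closure ({x} : Set X)) = ((d + 1 : ℕ) : WithBot ℕ∞) := hsJ ▸ hd
      obtain ⟨y, hy, hyx, hdy⟩ := exists_point_dim hdx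
      let O : X.Opens := ⟨(closure {y})ᶜ, isClosed_closure.isOpen_compl⟩
      have hxO : x ∈ O := fun hxy => hyx (((specializes_iff_mem_closure.mpr hxy).antisymm
        (specializes_iff_mem_closure.mpr hy)).eq)
      obtain ⟨n, s, hxs, hsO, -⟩ := Props.AmpleBase.exists_affine_genLocus_le hL hxO
      have hys : y ∉ CohB1.genLocus _ s := fun h => hsO h (subset_closure rfl)
      have hM' : PicF.IsInvertible (CohB1.tensorPow L (n + 1)) :=
        AmpleLib.isInvertible_tensorPow hL.1 _
      let φ := mulSec J s
      have hTc : Coh.IsCoh (CohDev.tens J (CohB1.tensorPow L (n + 1))) :=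
        isCoh_twist k hL.1 hJc (n + 1)
      haveI : Mono φ := by
        refine Preadditive.mono_of_isZero_kernel φ ?_
        by_contra hk
        obtain ⟨z, hz'⟩ := CohDev.exists_assoc (CohDev.isCoh_kernel' φ hJc hTc) hk
        have hzx : z = x := CohDev.eq_of_assoc_oz x
          (CohDev.assoc_of_mono g (CohDev.assoc_of_mono (kernel.ι φ) hz'))
        exact CohDev.not_mem_support_kernel φ (mulSec_bijective J s hxs).1
          (hzx ▸ CohDev.mem_support_of_assoc hz')
      let Q := cokernel φ
      have hQc : Coh.IsCoh Q := CohDev.isCoh_cokernel φ hJc.1 hTc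
      have hTs : CohB1.support (CohDev.tens J (CohB1.tensorPow L (n + 1))) ⊆ CohB1.support J :=
        support_tensorMod_subset J _
      have hQs : CohB1.support Q ⊆ closure {x} :=
        ((CohDev.support_subset_of_epi (cokernel.π φ)).trans hTs).trans hJs
      have hxQ : x ∉ CohB1.support Q :=
        CohDev.not_mem_support_cokernel φ (mulSec_bijective J s hxs).2
      have hyQ : y ∈ CohB1.support Q := fun hsub => by
        have hS : (ShortComplex.mk φ (cokernel.π φ) (cokernel.condition φ)).ShortExact :=
          { exact := ShortComplex.exact_of_g_is_cokernel _ (cokernelIsCokernel φ)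
            mono_f := inferInstanceAs (Mono φ)
            epi_g := inferInstanceAs (Epi (cokernel.π φ)) }
        exact mulSec_not_surjective J s hM' hJc hys (hsJ ▸ hy) fun t =>
          (((stalk_exact hS y).2.1) t).mp (@Subsingleton.elim _ hsub _ _)
      have hQd : topologicalKrullDim ↥(CohB1.support Q) = (d : WithBot ℕ∞) := by
        refine le_antisymm ?_ (hdy.ge.trans (CohDev.dim_mono
          (closure_minimal (Set.singleton_subset_iff.mpr hyQ) (CohDev.isClosed_support hQc))))
        have h := CohDev.dim_lt_of_irreducible (CohDev.isClosed_support hQc)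
          isIrreducible_singleton.closure hQs (fun h => hxQ (h (subset_closure rfl))) hdx.le
        revert h
        cases topologicalKrullDim ↥(CohB1.support Q) with
        | bot => exact fun _ => bot_le
        | coe a =>
          intro h
          exact WithBot.coe_le_coe.2 (Order.le_of_lt_add_one (α := ℕ∞)
            (by exact_mod_cast WithBot.coe_lt_coe.1 h))
      obtain ⟨PQ, hPQ⟩ := exists_hilbPoly k hL.1 hQc
      have hT : ShStab.IsHilbPoly k X L (CohDev.tens J (CohB1.tensorPow L (n + 1)))
          (P.comp (Polynomial.X + Polynomial.C ((n + 1 : ℕ) : ℚ))) := fun m => by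
        have e : ShStab.twist X L (CohDev.tens J (CohB1.tensorPow L (n + 1))) m ≅
            ShStab.twist X L J (n + 1 + m) :=
          ProjTwist.tensAssoc J (CohB1.tensorPow L (n + 1)) (CohB1.tensorPow L m) ≪≫
            ProjTwist.tensCongr (Iso.refl J) (powAdd L (n + 1) m)
        rw [EulerChar.euler_iso k e, hP (n + 1 + m), Polynomial.eval_comp, Polynomial.eval_add,
          Polynomial.eval_X, Polynomial.eval_C, Nat.cast_add, add_comm]
      have hadd := hilbPoly_add k hL.1 (S := ShortComplex.mk φ (cokernel.π φ) (cokernel.condition φ))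
        { exact := ShortComplex.exact_of_g_is_cokernel _ (cokernelIsCokernel φ)
          mono_f := inferInstanceAs (Mono φ)
          epi_g := inferInstanceAs (Epi (cokernel.π φ)) } hJc hTc hQc hP hT hPQ
      have hc := congrArg (fun p : Polynomial ℚ => p.coeff d) hadd
      simp only [Polynomial.coeff_add] at hc
      rw [coeff_comp_add P _ d (natDegree_le k hL.1 hJc hP (hd.le))] at hc
      have hpos : 0 < PQ.coeff d := ih hQc hPQ hQd
      have hN : (0 : ℚ) < ((d : ℚ) + 1) * ((n + 1 : ℕ) : ℚ) := by positivity
      exact (mul_pos_iff_of_pos_left hN).mp (by linarith)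

end Groth.Agent.HilbPolyX
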