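import Groth.Agent.VarDim.Scheme
import Groth.Agent.TopDimLib.Basic
import Groth.Agent.CohDev.Dim

/-!
# Dimensions of closed subsets of schemes of finite type over a field
-/

universe u

open CategoryTheory AlgebraicGeometry TopologicalSpace

noncomputable section

namespace Groth.Agent.HilbPolyX

/-- The dimension of a union of two closed sets. -/
theorem dim_union {T : Type u} [TopologicalSpace T] {A B : Set T} (hA : IsClosed A) (hB : IsClosed B) :
    topologicalKrullDim ↥(A ∪ B) = max (topologicalKrullDim ↥A) (topologicalKrullDim ↥B) := by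
  refine le_antisymm ?_ (max_le (CohDev.dim_mono Set.subset_union_left)
    (CohDev.dim_mono Set.subset_union_right))
  let Y : Bool → Set ↥(A ∪ B) := fun b =>
    (Subtype.val : ↥(A ∪ B) → T) ⁻¹' (if b then A else B)
  have hY : ∀ b, IsClosed (Y b) := fun b => by
    cases b
    · exact hB.preimage continuous_subtype_val
    · exact hA.preimage continuous_subtype_val
  have hcov : ⋃ b, Y b = Set.univ := Set.eq_univ_of_forall fun z => by
    rcases z.2 with h | h
    · exact Set.mem_iUnion.2 ⟨true, h⟩
    · exact Set.mem_iUnion.2 ⟨false, h⟩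
  rw [TopDimLib.topDim_eq_iSup_of_locallyFinite Y hY (locallyFinite_of_finite Y) hcov]
  refine iSup_le fun b => ?_
  have key : ∀ C : Set T, topologicalKrullDim ↥((Subtype.val : ↥(A ∪ B) → T) ⁻¹' C) ≤
      topologicalKrullDim ↥C := fun C =>
    Topology.IsInducing.topologicalKrullDim_le
      (f := fun z : ↥((Subtype.val : ↥(A ∪ B) → T) ⁻¹' C) => (⟨z.1.1, z.2⟩ : ↥C))
      ((Topology.IsInducing.subtypeVal.comp Topology.IsInducing.subtypeVal).codRestrict
        fun z => z.2)
  cases b
  · exact (key B).trans (le_max_right _ _)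
  · exact (key A).trans (le_max_left _ _)

variable (k : Type u) [Field k] (X : Scheme.{u}) [X.Over (Spec (CommRingCat.of k))]
  [LocallyOfFiniteType (X ↘ Spec (CommRingCat.of k))]

include k in
/-- A quasi-compact scheme locally of finite type over a field has finite dimension. -/
theorem exists_dim_le [IsNoetherian X] : ∃ D : ℕ, topologicalKrullDim X ≤ (D : WithBot ℕ∞) := by
  classical
  obtain ⟨t, ht⟩ : ∃ t : Set X, t.Finite ∧ ∀ x : X, ∃ η ∈ t, η ⤳ x := by
    refine ⟨genericPoints X, ?_, fun x => ?_⟩
    · exact (NoetherianSpace.finite_irreducibleComponents (α := X)).preimage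
        (fun a _ b _ h => (inseparable_iff_closure_eq.2 h).eq) |>.subset fun η hη => hη
    · obtain ⟨S, hS, hx⟩ : ∃ S ∈ irreducibleComponents X, x ∈ S :=
        ⟨irreducibleComponent x, irreducibleComponent_mem_irreducibleComponents x,
          mem_irreducibleComponent⟩
      refine ⟨hS.1.genericPoint, ?_, ?_⟩
      · show closure {hS.1.genericPoint} ∈ irreducibleComponents X
        rwa [hS.1.closure_genericPoint (isClosed_of_mem_irreducibleComponents _ hS)]
      · exact hS.1.isGenericPoint_genericPoint_closure.specializes (subset_closure hx)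
  refine ⟨ht.1.toFinset.sup (VarDim.dimPt k X), ?_⟩
  rw [VarDim.topologicalKrullDim_eq_iSup k]
  refine iSup_le fun x => ?_
  obtain ⟨η, hη, hsp⟩ := ht.2 x
  have h1 : VarDim.dimPt k X x ≤ VarDim.dimPt k X η := (VarDim.exists_ltSeries_of_le k hsp).1
  have h2 := Finset.le_sup (f := VarDim.dimPt k X) (ht.1.mem_toFinset.2 hη)
  exact_mod_cast h1.trans h2

end Groth.Agent.HilbPolyX
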