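import Groth.Prelude.Def_ShStab
import Groth.Agent.EulerChar.Deg
import Groth.Agent.ProjTwist.Tensor
import Groth.Agent.AmpleLib.Basic
import Groth.Agent.S14405
import Groth.Agent.HilbPolyX.Dim
import Mathlib.Algebra.Polynomial.Roots
import Mathlib.RingTheory.Polynomial.Basic

/-!
# Hilbert polynomials of coherent modules on proper schemes over a field

For an invertible `L` the function `m ↦ χ(X, F ⊗ L^{⊗ m})` of a coherent `F` with support of dimension
`≤ n` is a polynomial of degree `≤ n` (twisting changes the class in `K₀` only by classes with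
smaller support); uniqueness and additivity.
-/

universe u

open CategoryTheory CategoryTheory.Limits AlgebraicGeometry TopologicalSpace Polynomial

set_option linter.style.haveILetI false

noncomputable section

namespace Groth.Agent.HilbPolyX

variable {X : Scheme.{u}}

/-- Twisting as a functor. -/
abbrev twistF (L : X.Modules) (m : ℕ) : X.Modules ⥤ X.Modules :=
  (DCoh.tensorBi (X := X)).flip.obj (CohB1.tensorPow L m)

theorem twistF_obj (L F : X.Modules) (m : ℕ) : (twistF L m).obj F = ShStab.twist X L F m := rfl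

/-- `(L ⊗ F)(m) ≅ F(m + 1)`. -/
def twistSucc (L F : X.Modules) (m : ℕ) :
    CohB1.tensorMod (CohB1.tensorMod L F) (CohB1.tensorPow L m) ≅
      CohB1.tensorMod F (CohB1.tensorPow L (m + 1)) :=
  ProjTwist.tensCongr (ProjTwist.tensComm L F) (Iso.refl _) ≪≫
    ProjTwist.tensAssoc F L (CohB1.tensorPow L m) ≪≫
      ProjTwist.tensCongr (Iso.refl F) (ProjTwist.tensComm L (CohB1.tensorPow L m))

theorem support_tensorMod_subset (F M : X.Modules) :
    CohB1.support (CohB1.tensorMod F M) ⊆ CohB1.support F :=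
  (CohDev.support_subset_of_mono (ProjTwist.tensComm F M).hom).trans
    (CohDev.support_tens_subset M F)

variable (k : Type u) [Field k] [X.Over (Spec (CommRingCat.of k))]
  [IsProper (X ↘ Spec (CommRingCat.of k))] {L : X.Modules} (hL : PicF.IsInvertible L)

include k hL in
theorem isCoh_twist {F : X.Modules} (hF : Coh.IsCoh F) (m : ℕ) :
    Coh.IsCoh (ShStab.twist X L F m) :=
  haveI := EulerChar.isNoetherian k (X := X)
  ProjTwist.isCoh_tensor (AmpleLib.isInvertible_tensorPow hL m) hF

include hL in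
/-- Euler characteristics of twists are additive. -/
theorem euler_twist_add {S : ShortComplex X.Modules} (hS : S.ShortExact) (h₁ : Coh.IsCoh S.X₁)
    (h₂ : Coh.IsCoh S.X₂) (h₃ : Coh.IsCoh S.X₃) (m : ℕ) :
    Curv2.euler k X (ShStab.twist X L S.X₂ m) =
      Curv2.euler k X (ShStab.twist X L S.X₁ m) + Curv2.euler k X (ShStab.twist X L S.X₃ m) :=
  EulerChar.euler_add k (S := S.map (twistF L m))
    (ProjTwist.shortExact_tensor (AmpleLib.isInvertible_tensorPow hL m) hS)
    (isCoh_twist k hL h₁ m) (isCoh_twist k hL h₂ m) (isCoh_twist k hL h₃ m)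

/-- `c ↦ χ(c(m))` on `K₀`. -/
def eulerTw (m : ℕ) : SGA6.Kcoh X →+ ℤ :=
  EulerChar.liftK (fun F => Curv2.euler k X (ShStab.twist X L F m)) fun _ hS h₁ h₂ h₃ =>
    euler_twist_add k hL hS h₁ h₂ h₃ m

theorem eulerTw_kcl {F : X.Modules} (hF : Coh.IsCoh F) (m : ℕ) :
    eulerTw k hL m (CohDev.kcl F) = Curv2.euler k X (ShStab.twist X L F m) :=
  EulerChar.liftK_kcl _ _ hF

include hL in
/-- `χ(F(m))` is a polynomial of degree below any strict bound of the dimension of the support. -/
theorem exists_poly_lt (n : ℕ) : ∀ {F : X.Modules}, Coh.IsCoh F →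
    topologicalKrullDim ↥(CohB1.support F) < (n : WithBot ℕ∞) →
    ∃ P ∈ degreeLT ℚ n, ∀ m : ℕ, (Curv2.euler k X (ShStab.twist X L F m) : ℚ) = P.eval (m : ℚ) := by
  haveI := EulerChar.isNoetherian k (X := X)
  induction n with
  | zero =>
    intro F hF hd
    refine ⟨0, zero_mem _, fun m => ?_⟩
    have hz : IsZero (ShStab.twist X L F m) :=
      CohDev.isZero_of_support_eq_empty (Set.subset_empty_iff.1 <|
        (support_tensorMod_subset F _).trans (EulerChar.support_eq_empty_of_dim_lt hd).le)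
    rw [EulerChar.euler_of_isZero k hz]
    simp
  | succ n ih =>
    intro F hF hd
    have hle : topologicalKrullDim ↥(CohB1.support F) ≤ (n : WithBot ℕ∞) := by
      revert hd
      cases topologicalKrullDim ↥(CohB1.support F) with
      | bot => exact fun _ => bot_le
      | coe a =>
        intro hd
        refine WithBot.coe_le_coe.2 ?_
        have h := WithBot.coe_lt_coe.1 hd
        exact Order.le_of_lt_add_one (α := ℕ∞) (by exact_mod_cast h)
    let c : SGA6.Kcoh X := CohDev.kcl (CohDev.tens L F) - 1 • CohDev.kcl F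
    have hc : c ∈ AddSubgroup.closure {c : SGA6.Kcoh X | ∃ G : X.Modules, Coh.IsCoh G ∧
        topologicalKrullDim ↥(CohB1.support G) < n ∧ c = CohDev.kcl G} :=
      CohDev.kcl_tens_sub_mem_filt (ProjTwist.isFinLocFreeOfRank_one hL) hF n hle
    have key : ∀ x : SGA6.Kcoh X, x ∈ AddSubgroup.closure {c : SGA6.Kcoh X | ∃ G : X.Modules,
        Coh.IsCoh G ∧ topologicalKrullDim ↥(CohB1.support G) < n ∧ c = CohDev.kcl G} →
        ∃ Q ∈ degreeLT ℚ n, ∀ m : ℕ, (eulerTw k hL m x : ℚ) = Q.eval (m : ℚ) := by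
      intro x hx
      induction hx using AddSubgroup.closure_induction with
      | mem x hx =>
        obtain ⟨G, hG, hGd, rfl⟩ := hx
        obtain ⟨P, hP, h⟩ := ih hG hGd
        exact ⟨P, hP, fun m => by rw [eulerTw_kcl k hL hG, h]⟩
      | zero => exact ⟨0, zero_mem _, by simp⟩
      | add x y _ _ hx hy =>
        obtain ⟨P, hP, h⟩ := hx
        obtain ⟨Q, hQ, h'⟩ := hy
        exact ⟨P + Q, add_mem hP hQ, fun m => by
          rw [map_add, Int.cast_add, h, h', eval_add]⟩
      | neg x _ hx =>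
        obtain ⟨P, hP, h⟩ := hx
        exact ⟨-P, neg_mem hP, fun m => by rw [map_neg, Int.cast_neg, h, eval_neg]⟩
    obtain ⟨Q, hQ, hQm⟩ := key c hc
    have hstep : ∀ m : ℕ, (Curv2.euler k X (ShStab.twist X L F (m + 1)) : ℚ) =
        Curv2.euler k X (ShStab.twist X L F m) + Q.eval (m : ℚ) := fun m => by
      rw [← hQm m]
      simp only [c, one_smul, map_sub]
      have e : ShStab.twist X L (CohDev.tens L F) m ≅ ShStab.twist X L F (m + 1) := twistSucc L F m
      rw [eulerTw_kcl k hL (EulerChar.isCoh_tens k (ProjTwist.isFinLocFreeOfRank_one hL) hF),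
        eulerTw_kcl k hL hF, EulerChar.euler_iso k e]
      push_cast
      ring
    obtain ⟨P, hP, hPQ⟩ : ∃ P ∈ degreeLT ℚ (n + 1),
        ∀ x : ℚ, P.eval (x + 1) - P.eval x = Q.eval x := by
      rcases n with _ | d
      · refine ⟨0, zero_mem _, fun x => ?_⟩
        have : Q = 0 := by simpa [mem_degreeLT, degree_eq_bot] using hQ
        simp [this]
      · have hdeg : (Q.comp (Polynomial.X - C 1)).natDegree ≤ d := by
          rw [natDegree_comp, natDegree_X_sub_C, mul_one]
          rcases eq_or_ne Q 0 with rfl | hQ0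
          · simp
          · exact Nat.le_of_lt_succ ((natDegree_lt_iff_degree_lt hQ0).2 (mem_degreeLT.1 hQ))
        obtain ⟨P, hP1, -, hP2⟩ := S14405.exists_antidiff d _ hdeg
        refine ⟨P, mem_degreeLT.2 (lt_of_le_of_lt degree_le_natDegree ?_), fun x => ?_⟩
        · exact_mod_cast Nat.lt_succ_of_le hP1
        · have := congrArg (Polynomial.eval (x + 1)) hP2
          simpa using this
    refine ⟨P + C ((Curv2.euler k X (ShStab.twist X L F 0) : ℚ) - P.eval 0),
      add_mem hP (mem_degreeLT.2 (lt_of_le_of_lt degree_C_le (by exact_mod_cast Nat.succ_pos n))),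
      fun m => ?_⟩
    induction m with
    | zero => simp
    | succ m ihm =>
      rw [hstep, ihm, ← hPQ (m : ℚ)]
      simp only [eval_add, eval_C, Nat.cast_add, Nat.cast_one]
      ring

/-- Two polynomials agreeing on all natural numbers are equal. -/
theorem poly_ext {P Q : ℚ[X]} (h : ∀ m : ℕ, P.eval (m : ℚ) = Q.eval (m : ℚ)) : P = Q :=
  Polynomial.eq_of_infinite_eval_eq P Q
    ((Set.infinite_range_of_injective (Nat.cast_injective (R := ℚ))).mono
      (by rintro _ ⟨m, rfl⟩; exact h m))

omit [IsProper (X ↘ Spec (CommRingCat.of k))] in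
/-- The Hilbert polynomial is unique. -/
theorem hilbPoly_unique {F : X.Modules} {P Q : ℚ[X]} (hP : ShStab.IsHilbPoly k X L F P)
    (hQ : ShStab.IsHilbPoly k X L F Q) : P = Q :=
  poly_ext fun m => (hP m).symm.trans (hQ m)

include hL in
/-- Every coherent module has a Hilbert polynomial. -/
theorem exists_hilbPoly {F : X.Modules} (hF : Coh.IsCoh F) : ∃ P, ShStab.IsHilbPoly k X L F P := by
  haveI := EulerChar.isNoetherian k (X := X)
  obtain ⟨D, hD⟩ := exists_dim_le k X
  obtain ⟨P, -, hP⟩ := exists_poly_lt k hL (D + 1) hF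
    (lt_of_le_of_lt (EulerChar.dim_support_le hD) (by exact_mod_cast Nat.lt_succ_self D))
  exact ⟨P, hP⟩

include hL in
/-- The degree of the Hilbert polynomial is below any strict bound of the dimension of the support. -/
theorem coeff_eq_zero {F : X.Modules} (hF : Coh.IsCoh F) {P : ℚ[X]}
    (hP : ShStab.IsHilbPoly k X L F P) {n : ℕ}
    (hd : topologicalKrullDim ↥(CohB1.support F) < (n : WithBot ℕ∞)) {i : ℕ} (hi : n ≤ i) :
    P.coeff i = 0 := by
  obtain ⟨Q, hQ, h⟩ := exists_poly_lt k hL n hF hd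
  rw [hilbPoly_unique k hP h]
  exact coeff_eq_zero_of_degree_lt (lt_of_lt_of_le (mem_degreeLT.1 hQ) (by exact_mod_cast hi))

include hL in
/-- The degree of the Hilbert polynomial is at most the dimension of the support. -/
theorem natDegree_le {F : X.Modules} (hF : Coh.IsCoh F) {P : ℚ[X]}
    (hP : ShStab.IsHilbPoly k X L F P) {d : ℕ}
    (hd : topologicalKrullDim ↥(CohB1.support F) ≤ (d : WithBot ℕ∞)) : P.natDegree ≤ d :=
  natDegree_le_iff_coeff_eq_zero.2 fun i hi => coeff_eq_zero k hL hF hP (n := d + 1)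
    (lt_of_le_of_lt hd (by exact_mod_cast Nat.lt_succ_self d)) hi

include hL in
/-- Hilbert polynomials add along short exact sequences. -/
theorem hilbPoly_add {S : ShortComplex X.Modules} (hS : S.ShortExact) (h₁ : Coh.IsCoh S.X₁)
    (h₂ : Coh.IsCoh S.X₂) (h₃ : Coh.IsCoh S.X₃) {P₁ P₂ P₃ : ℚ[X]}
    (hP₁ : ShStab.IsHilbPoly k X L S.X₁ P₁) (hP₂ : ShStab.IsHilbPoly k X L S.X₂ P₂)
    (hP₃ : ShStab.IsHilbPoly k X L S.X₃ P₃) : P₂ = P₁ + P₃ :=
  poly_ext fun m => by
    rw [eval_add, ← hP₁ m, ← hP₂ m, ← hP₃ m, euler_twist_add k hL hS h₁ h₂ h₃ m, Int.cast_add]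

omit [IsProper (X ↘ Spec (CommRingCat.of k))] in
theorem hilbPoly_of_isZero {F : X.Modules} (hF : IsZero F) : ShStab.IsHilbPoly k X L F 0 := fun m => by
  rw [EulerChar.euler_of_isZero k (M := ShStab.twist X L F m)
    ((twistF L m).map_isZero hF), eval_zero, Int.cast_zero]

theorem hilbPoly_iso {F G : X.Modules} (e : F ≅ G) {P : ℚ[X]} (hP : ShStab.IsHilbPoly k X L F P) :
    ShStab.IsHilbPoly k X L G P := fun m => by
  have e' : ShStab.twist X L F m ≅ ShStab.twist X L G m := (twistF L m).mapIso e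
  rw [← EulerChar.euler_iso k e']
  exact hP m

end Groth.Agent.HilbPolyX
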