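import Groth.Prelude.Def_StabCat
import Mathlib.Analysis.Polynomial.Basic
import Mathlib.Algebra.Polynomial.Roots
import Mathlib.Algebra.Polynomial.Eval.SMul
import Mathlib.Tactic.LinearCombination
import Mathlib.Tactic.Module

/-!
# The order "eventually at most" on rational polynomials
-/

open Polynomial Filter

noncomputable section

namespace Groth.Agent.HilbPolyX

open StabCat (PolyLE PolyLT alpha RedLE RedLT RedEq topPart hatSlope)

variable {P Q R : ℚ[X]}

theorem eventually_pos_of_leadingCoeff_pos {D : ℚ[X]} (h : 0 < D.leadingCoeff) :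
    ∀ᶠ m : ℕ in atTop, 0 < D.eval (m : ℚ) := by
  rcases Nat.eq_zero_or_pos D.natDegree with h0 | h0
  · refine Eventually.of_forall fun m => ?_
    rw [eq_C_of_natDegree_eq_zero h0, eval_C]
    rwa [leadingCoeff, h0] at h
  · exact ((D.tendsto_atTop_of_leadingCoeff_nonneg (natDegree_pos_iff_degree_pos.1 h0) h.le).comp
      tendsto_natCast_atTop_atTop).eventually_gt_atTop 0

theorem polyLT_iff : PolyLT P Q ↔ 0 < (Q - P).leadingCoeff := by
  constructor
  · intro ⟨N, hN⟩
    by_contra h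
    rcases lt_or_eq_of_le (not_lt.1 h) with h' | h'
    · obtain ⟨m, hm, hm'⟩ := ((eventually_pos_of_leadingCoeff_pos
        (D := P - Q) (by rw [← neg_sub, leadingCoeff_neg]; linarith)).and (eventually_ge_atTop N)).exists
      have := hN m hm'
      rw [eval_sub] at hm
      linarith
    · have := hN N le_rfl
      rw [sub_eq_zero.1 (leadingCoeff_eq_zero.1 h')] at this
      exact lt_irrefl _ this
  · intro h
    obtain ⟨N, hN⟩ := eventually_atTop.1 (eventually_pos_of_leadingCoeff_pos h)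
    exact ⟨N, fun m hm => by have := hN m hm; rw [eval_sub] at this; linarith⟩

theorem polyLE_refl (P : ℚ[X]) : PolyLE P P := ⟨0, fun _ _ => le_rfl⟩

theorem polyLE_of_lt (h : PolyLT P Q) : PolyLE P Q :=
  let ⟨N, hN⟩ := h; ⟨N, fun m hm => (hN m hm).le⟩

theorem polyLE_iff : PolyLE P Q ↔ 0 ≤ (Q - P).leadingCoeff := by
  constructor
  · intro ⟨N, hN⟩
    by_contra h
    obtain ⟨M, hM⟩ := polyLT_iff.2 (show 0 < (P - Q).leadingCoeff by
      rw [← neg_sub, leadingCoeff_neg]; linarith [not_le.1 h])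
    linarith [hN (max N M) (le_max_left _ _), hM (max N M) (le_max_right _ _)]
  · intro h
    rcases lt_or_eq_of_le h with h' | h'
    · exact polyLE_of_lt (polyLT_iff.2 h')
    · rw [sub_eq_zero.1 (leadingCoeff_eq_zero.1 h'.symm)]
      exact polyLE_refl P

theorem polyLE_antisymm (h : PolyLE P Q) (h' : PolyLE Q P) : P = Q := by
  rw [polyLE_iff] at h h'
  rw [← neg_sub, leadingCoeff_neg] at h'
  exact (sub_eq_zero.1 (leadingCoeff_eq_zero.1 (by linarith))).symm

theorem polyLE_or_lt (P Q : ℚ[X]) : PolyLE P Q ∨ PolyLT Q P := by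
  rcases le_or_gt 0 (Q - P).leadingCoeff with h | h
  · exact Or.inl (polyLE_iff.2 h)
  · exact Or.inr (polyLT_iff.2 (by rw [← neg_sub, leadingCoeff_neg]; linarith))

theorem not_polyLT_self : ¬ PolyLT P P := by simp [polyLT_iff]

theorem not_lt_of_le (h : PolyLE P Q) : ¬ PolyLT Q P := fun h' => by
  obtain ⟨N, hN⟩ := h
  obtain ⟨M, hM⟩ := h'
  linarith [hN (max N M) (le_max_left _ _), hM (max N M) (le_max_right _ _)]

theorem polyLE_trans (h : PolyLE P Q) (h' : PolyLE Q R) : PolyLE P R := by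
  obtain ⟨N, hN⟩ := h
  obtain ⟨M, hM⟩ := h'
  exact ⟨max N M, fun m hm =>
    (hN m (le_of_max_le_left hm)).trans (hM m (le_of_max_le_right hm))⟩

theorem polyLT_of_le_of_lt (h : PolyLE P Q) (h' : PolyLT Q R) : PolyLT P R := by
  obtain ⟨N, hN⟩ := h
  obtain ⟨M, hM⟩ := h'
  exact ⟨max N M, fun m hm =>
    (hN m (le_of_max_le_left hm)).trans_lt (hM m (le_of_max_le_right hm))⟩

theorem polyLT_of_lt_of_le (h : PolyLT P Q) (h' : PolyLE Q R) : PolyLT P R := by
  obtain ⟨N, hN⟩ := h
  obtain ⟨M, hM⟩ := h'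
  exact ⟨max N M, fun m hm =>
    (hN m (le_of_max_le_left hm)).trans_le (hM m (le_of_max_le_right hm))⟩

theorem polyLE_smul {c : ℚ} (hc : 0 ≤ c) (h : PolyLE P Q) : PolyLE (c • P) (c • Q) := by
  obtain ⟨N, hN⟩ := h
  refine ⟨N, fun m hm => ?_⟩
  simp only [Polynomial.eval_smul, smul_eq_mul]
  exact mul_le_mul_of_nonneg_left (hN m hm) hc

theorem polyLT_smul {c : ℚ} (hc : 0 < c) (h : PolyLT P Q) : PolyLT (c • P) (c • Q) := by
  obtain ⟨N, hN⟩ := h
  refine ⟨N, fun m hm => ?_⟩
  simp only [Polynomial.eval_smul, smul_eq_mul]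
  exact mul_lt_mul_of_pos_left (hN m hm) hc

theorem smul_cancel {c : ℚ} (hc : c ≠ 0) {P Q : ℚ[X]} (h : c • P = c • Q) : P = Q := by
  simpa [hc] using congrArg (fun R => c⁻¹ • R) h

/-! ### Reduced comparison, with positive multiplicities -/

variable {d : ℕ}

theorem alpha_add (d : ℕ) (P Q : ℚ[X]) : alpha d (P + Q) = alpha d P + alpha d Q := by
  simp [alpha, mul_add]

theorem alpha_smul (d : ℕ) (c : ℚ) (P : ℚ[X]) : alpha d (c • P) = c * alpha d P := by
  simp [alpha, smul_eq_mul]; ring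

theorem alpha_pos_iff : 0 < alpha d P ↔ 0 < P.coeff d :=
  mul_pos_iff_of_pos_left (by exact_mod_cast d.factorial_pos)

theorem redLE_refl (d : ℕ) (P : ℚ[X]) : RedLE d P P := polyLE_refl _

theorem redLE_of_lt (h : RedLT d P Q) : RedLE d P Q := polyLE_of_lt h

theorem redLE_of_eq (h : RedEq d P Q) : RedLE d P Q := by
  unfold RedLE; rw [show _ = _ from h]; exact polyLE_refl _

theorem redEq_symm (h : RedEq d P Q) : RedEq d Q P := Eq.symm h

theorem redEq_of_le_of_le (h : RedLE d P Q) (h' : RedLE d Q P) : RedEq d P Q :=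
  polyLE_antisymm h h'

theorem not_redLT_of_le (h : RedLE d P Q) : ¬ RedLT d Q P := not_lt_of_le h

theorem redLE_or_lt (d : ℕ) (P Q : ℚ[X]) : RedLE d P Q ∨ RedLT d Q P := polyLE_or_lt _ _

theorem redLE_trans (hP : 0 ≤ alpha d P) (hQ : 0 < alpha d Q) (hR : 0 ≤ alpha d R)
    (h : RedLE d P Q) (h' : RedLE d Q R) : RedLE d P R := by
  obtain ⟨N, hN⟩ := h
  obtain ⟨M, hM⟩ := h'
  refine ⟨max N M, fun m hm => le_of_mul_le_mul_left ?_ hQ⟩
  have h1 := mul_le_mul_of_nonneg_left (hN m (le_of_max_le_left hm)) hR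
  have h2 := mul_le_mul_of_nonneg_left (hM m (le_of_max_le_right hm)) hP
  simp only [Polynomial.eval_smul, smul_eq_mul] at h1 h2 ⊢
  linarith

theorem redLT_of_le_of_lt (hP : 0 < alpha d P) (hQ : 0 < alpha d Q) (hR : 0 ≤ alpha d R)
    (h : RedLE d P Q) (h' : RedLT d Q R) : RedLT d P R := by
  obtain ⟨N, hN⟩ := h
  obtain ⟨M, hM⟩ := h'
  refine ⟨max N M, fun m hm => lt_of_mul_lt_mul_left ?_ hQ.le⟩
  have h1 := mul_le_mul_of_nonneg_left (hN m (le_of_max_le_left hm)) hR
  have h2 := mul_lt_mul_of_pos_left (hM m (le_of_max_le_right hm)) hP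
  simp only [Polynomial.eval_smul, smul_eq_mul] at h1 h2 ⊢
  linarith

theorem redLT_of_lt_of_le (hP : 0 ≤ alpha d P) (hQ : 0 < alpha d Q) (hR : 0 < alpha d R)
    (h : RedLT d P Q) (h' : RedLE d Q R) : RedLT d P R := by
  obtain ⟨N, hN⟩ := h
  obtain ⟨M, hM⟩ := h'
  refine ⟨max N M, fun m hm => lt_of_mul_lt_mul_left ?_ hQ.le⟩
  have h1 := mul_lt_mul_of_pos_left (hN m (le_of_max_le_left hm)) hR
  have h2 := mul_le_mul_of_nonneg_left (hM m (le_of_max_le_right hm)) hP
  simp only [Polynomial.eval_smul, smul_eq_mul] at h1 h2 ⊢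
  linarith

/-! ### Seesaw: a polynomial against its two summands -/

theorem redLE_add_left_iff (P Q : ℚ[X]) : RedLE d P (P + Q) ↔ RedLE d (P + Q) Q := by
  unfold RedLE PolyLE
  simp only [alpha_add, Polynomial.eval_smul, smul_eq_mul, eval_add]
  constructor <;> rintro ⟨N, hN⟩ <;> refine ⟨N, fun m hm => ?_⟩ <;> nlinarith [hN m hm]

theorem redLT_add_left_iff (P Q : ℚ[X]) : RedLT d P (P + Q) ↔ RedLT d (P + Q) Q := by
  unfold RedLT PolyLT
  simp only [alpha_add, Polynomial.eval_smul, smul_eq_mul, eval_add]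
  constructor <;> rintro ⟨N, hN⟩ <;> refine ⟨N, fun m hm => ?_⟩ <;> nlinarith [hN m hm]

theorem redEq_add_left_iff (P Q : ℚ[X]) : RedEq d P (P + Q) ↔ RedEq d (P + Q) Q := by
  unfold RedEq
  simp only [alpha_add, smul_add, add_smul]
  constructor <;> intro h
  · exact add_right_cancel (b := alpha d P • P) (by linear_combination (norm := module) h)
  · exact add_right_cancel (b := alpha d Q • Q) (by linear_combination (norm := module) h)

/-! ### Truncations -/

theorem coeff_topPart (ℓ d : ℕ) (P : ℚ[X]) (i : ℕ) :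
    (topPart ℓ d P).coeff i = if d - ℓ ≤ i ∧ i ≤ d then P.coeff i else 0 := by
  simp only [topPart, finsetSum_coeff, coeff_monomial, Finset.sum_ite_eq', Finset.mem_Icc]

theorem alpha_topPart (ℓ d : ℕ) (P : ℚ[X]) : alpha d (topPart ℓ d P) = alpha d P := by
  simp [alpha, coeff_topPart]

theorem topPart_self (d : ℕ) {P : ℚ[X]} (h : P.natDegree ≤ d) : topPart d d P = P := by
  ext i
  rw [coeff_topPart, Nat.sub_self]
  rcases le_or_gt i d with hi | hi
  · rw [if_pos ⟨Nat.zero_le i, hi⟩]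
  · rw [if_neg (fun hc => by omega), coeff_eq_zero_of_natDegree_lt (h.trans_lt hi)]

theorem topPart_sub (ℓ d : ℕ) (P Q : ℚ[X]) : topPart ℓ d (P - Q) = topPart ℓ d P - topPart ℓ d Q := by
  ext i
  rw [coeff_sub, coeff_topPart, coeff_topPart, coeff_topPart, coeff_sub]
  split_ifs <;> simp

theorem topPart_smul (ℓ d : ℕ) (c : ℚ) (P : ℚ[X]) : topPart ℓ d (c • P) = c • topPart ℓ d P := by
  ext i
  rw [coeff_smul, coeff_topPart, coeff_topPart, coeff_smul]
  split_ifs <;> simp

theorem polyLE_topPart (ℓ : ℕ) (hP : P.natDegree ≤ d) (hQ : Q.natDegree ≤ d) (h : PolyLE P Q) :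
    PolyLE (topPart ℓ d P) (topPart ℓ d Q) := by
  rw [polyLE_iff] at h ⊢
  rw [← topPart_sub]
  have hD : (Q - P).natDegree ≤ d := (natDegree_sub_le _ _).trans (max_le hQ hP)
  generalize Q - P = D at h hD
  rcases lt_or_ge D.natDegree (d - ℓ) with hlt | hge
  · have : topPart ℓ d D = 0 := by
      ext i
      rw [coeff_topPart, coeff_zero]
      split_ifs with hi
      · exact coeff_eq_zero_of_natDegree_lt (hlt.trans_le hi.1)
      · rfl
    simp [this]
  · have hc : (topPart ℓ d D).coeff D.natDegree = D.leadingCoeff := by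
      rw [coeff_topPart, if_pos ⟨hge, hD⟩]; rfl
    have hle : (topPart ℓ d D).natDegree ≤ D.natDegree := by
      refine natDegree_le_iff_coeff_eq_zero.2 fun i hi => ?_
      rw [coeff_topPart]
      split_ifs
      · exact coeff_eq_zero_of_natDegree_lt hi
      · rfl
    rcases eq_or_lt_of_le h with h0 | h0
    · have : D = 0 := leadingCoeff_eq_zero.1 h0.symm
      subst this
      simp [topPart]
    · rw [leadingCoeff, natDegree_eq_of_le_of_coeff_ne_zero hle (hc ▸ h0.ne'), hc]
      exact h0.le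

theorem redLE_topPart (ℓ : ℕ) (hP : P.natDegree ≤ d) (hQ : Q.natDegree ≤ d) (h : RedLE d P Q) :
    RedLE d (topPart ℓ d P) (topPart ℓ d Q) := by
  have := polyLE_topPart ℓ ((natDegree_smul_le _ _).trans hP) ((natDegree_smul_le _ _).trans hQ) h
  rw [topPart_smul, topPart_smul] at this
  unfold RedLE
  rwa [alpha_topPart, alpha_topPart]

/-- Comparison of the coefficient of degree `n` when both degrees are at most `n`. -/
theorem coeff_le_of_polyLE {n : ℕ} (hP : P.natDegree ≤ n) (hQ : Q.natDegree ≤ n) (h : PolyLE P Q) :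
    P.coeff n ≤ Q.coeff n := by
  have hD : (Q - P).natDegree ≤ n := (natDegree_sub_le _ _).trans (max_le hQ hP)
  rw [polyLE_iff] at h
  rcases hD.eq_or_lt with he | hlt
  · rw [leadingCoeff, he, coeff_sub] at h; linarith
  · have := coeff_eq_zero_of_natDegree_lt hlt; rw [coeff_sub] at this; linarith

/-- A reduced inequality gives the inequality of slopes. -/
theorem hatSlope_le_of_redLE (hP : P.natDegree ≤ d) (hQ : Q.natDegree ≤ d)
    (hPa : 0 < alpha d P) (hQa : 0 < alpha d Q) (h : RedLE d P Q) :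
    hatSlope d P ≤ hatSlope d Q := by
  rcases Nat.eq_zero_or_pos d with rfl | hd
  · simp [hatSlope, hPa.ne', hQa.ne']
  obtain ⟨e, rfl⟩ : ∃ e, d = e + 1 := ⟨d - 1, by omega⟩
  let A := alpha (e + 1) Q • P
  let B := alpha (e + 1) P • Q
  have h0 : (B - A).coeff (e + 1) = 0 := by
    simp [A, B, alpha]; ring
  have hD : (B - A).natDegree ≤ e := natDegree_le_iff_coeff_eq_zero.2 fun i hi => by
    rcases Nat.lt_or_ge (e + 1) i with hi' | hi'
    · simp [A, B, coeff_eq_zero_of_natDegree_lt (hP.trans_lt hi'),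
        coeff_eq_zero_of_natDegree_lt (hQ.trans_lt hi')]
    · obtain rfl : i = e + 1 := le_antisymm hi' hi
      exact h0
  have hle : PolyLE A B := h
  have h1 : PolyLE 0 (B - A) := by
    obtain ⟨N, hN⟩ := hle
    exact ⟨N, fun m hm => by simp only [eval_zero, eval_sub]; linarith [hN m hm]⟩
  have h2 := coeff_le_of_polyLE (n := e) (by simp) hD h1
  rw [coeff_zero, coeff_sub] at h2
  simp only [A, B, coeff_smul, smul_eq_mul] at h2
  have h3 : alpha (e + 1) Q * alpha e P ≤ alpha (e + 1) P * alpha e Q := by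
    have := mul_le_mul_of_nonneg_left (sub_nonneg.1 h2) (Nat.cast_nonneg e.factorial : (0 : ℚ) ≤ _)
    simp only [alpha] at this ⊢
    linarith
  simp only [hatSlope, Nat.add_sub_cancel]
  rw [div_le_div_iff₀ hPa hQa]
  linarith

end Groth.Agent.HilbPolyX
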