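import Groth.Agent.HilbPolyX.Ample
import Groth.Agent.HilbPolyX.Order

/-!
# Hilbert polynomials of submodules and quotients: the facts used by stability arguments
-/

universe u

open CategoryTheory CategoryTheory.Limits AlgebraicGeometry TopologicalSpace
open StabCat (PolyLE PolyLT alpha RedLE RedLT RedEq)

set_option linter.style.haveILetI false

noncomputable section

namespace Groth.Agent.HilbPolyX

variable (k : Type u) [Field k] {X : Scheme.{u}} [X.Over (Spec (CommRingCat.of k))]

open Classical in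
/-- The Hilbert polynomial (zero when there is none). -/
def hilb (L F : X.Modules) : Polynomial ℚ :=
  if h : ∃ P, ShStab.IsHilbPoly k X L F P then h.choose else 0

theorem support_eq_empty_of_isZero {M : X.Modules} (h : IsZero M) : CohB1.support M = ∅ :=
  Set.eq_empty_of_forall_notMem fun x hx => hx (AddCommGrpCat.subsingleton_of_isZero
    ((Scheme.Modules.toPresheaf X ⋙ TopCat.Presheaf.stalkFunctor AddCommGrpCat.{u} x).map_isZero h))

theorem dim_support_of_isZero {M : X.Modules} (h : IsZero M) :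
    topologicalKrullDim ↥(CohB1.support M) = ⊥ := by
  haveI : IsEmpty ↥(CohB1.support M) := Set.isEmpty_coe_sort.2 (support_eq_empty_of_isZero h)
  haveI : IsEmpty (IrreducibleCloseds ↥(CohB1.support M)) :=
    ⟨fun s => isEmptyElim s.isIrreducible.1.some⟩
  exact Order.krullDim_eq_bot

theorem not_isZero_of_dim {M : X.Modules} {e : ℕ}
    (h : topologicalKrullDim ↥(CohB1.support M) = (e : WithBot ℕ∞)) : ¬ IsZero M := fun hz => by
  rw [dim_support_of_isZero hz] at h
  exact absurd h (by simp)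

theorem isPure_of_mono {E F : X.Modules} {d : ℕ} (hp : ShStab.IsPure X E d) (ι : F ⟶ E) [Mono ι] :
    ShStab.IsPure X F d := fun G κ _ hG hG0 => hp G (κ ≫ ι) (mono_comp κ ι) hG hG0

theorem dim_of_isPure {E : X.Modules} {d : ℕ} (hE : Coh.IsCoh E) (h0 : ¬ IsZero E)
    (hp : ShStab.IsPure X E d) : topologicalKrullDim ↥(CohB1.support E) = (d : WithBot ℕ∞) :=
  hp E (𝟙 E) inferInstance hE h0

/-- The sequence of a monomorphism. -/
theorem shortExact_of_mono {F E : X.Modules} (ι : F ⟶ E) [Mono ι] :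
    (ShortComplex.mk ι (cokernel.π ι) (cokernel.condition ι)).ShortExact :=
  { exact := ShortComplex.exact_of_g_is_cokernel _ (cokernelIsCokernel ι)
    mono_f := inferInstanceAs (Mono ι)
    epi_g := inferInstanceAs (Epi (cokernel.π ι)) }

/-- The sequence of an epimorphism. -/
theorem shortExact_of_epi {E G : X.Modules} (π : E ⟶ G) [Epi π] :
    (ShortComplex.mk (kernel.ι π) π (kernel.condition π)).ShortExact :=
  { exact := ShortComplex.exact_of_f_is_kernel _ (kernelIsKernel π)
    mono_f := inferInstanceAs (Mono (kernel.ι π))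
    epi_g := inferInstanceAs (Epi π) }

theorem isIso_of_epi_of_kernel {E G : X.Modules} (π : E ⟶ G) [Epi π] (h : IsZero (kernel π)) :
    IsIso π := by
  haveI : Mono π := Preadditive.mono_of_isZero_kernel π h
  exact isIso_of_mono_of_epi π

theorem isIso_of_mono_of_cokernel {F E : X.Modules} (ι : F ⟶ E) [Mono ι] (h : IsZero (cokernel ι)) :
    IsIso ι := by
  haveI : Epi ι := Preadditive.epi_of_isZero_cokernel ι h
  exact isIso_of_mono_of_epi ι

theorem isZero_cokernel_of_isIso {F E : X.Modules} (ι : F ⟶ E) [IsIso ι] : IsZero (cokernel ι) :=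
  (isZero_zero _).of_iso (cokernel.ofEpi ι)

theorem isZero_kernel_of_isIso {F E : X.Modules} (π : F ⟶ E) [IsIso π] : IsZero (kernel π) :=
  (isZero_zero _).of_iso (kernel.ofMono π)

variable [IsProper (X ↘ Spec (CommRingCat.of k))] {L : X.Modules}

include k in
theorem exists_dim {F : X.Modules} (h0 : ¬ IsZero F) :
    ∃ e : ℕ, topologicalKrullDim ↥(CohB1.support F) = (e : WithBot ℕ∞) := by
  haveI := EulerChar.isNoetherian k (X := X)
  obtain ⟨D, hD⟩ := exists_dim_le k X
  have h1 := EulerChar.dim_support_le (G := F) hD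
  haveI : Nonempty ↥(CohB1.support F) := Set.nonempty_coe_sort.2
    (Set.nonempty_iff_ne_empty.2 fun e => h0 (CohDev.isZero_of_support_eq_empty e))
  have h2 := TopDimLib.topDim_nonneg_of_nonempty (X := ↥(CohB1.support F))
  generalize topologicalKrullDim ↥(CohB1.support F) = v at h1 h2
  cases v with
  | bot => exact absurd h2 (by simp)
  | coe a =>
    have ha : a ≤ (D : ℕ∞) := WithBot.coe_le_coe.1 h1
    lift a to ℕ using (lt_of_le_of_lt ha (ENat.natCast_lt_top D)).ne
    exact ⟨a, rfl⟩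

variable (hL : CohB1.IsAmple L)

include hL in
theorem isHilbPoly_hilb {F : X.Modules} (hF : Coh.IsCoh F) :
    ShStab.IsHilbPoly k X L F (hilb k L F) := by
  have h := exists_hilbPoly k hL.1 hF
  rw [hilb, dif_pos h]
  exact h.choose_spec

include hL in
theorem eq_hilb {F : X.Modules} (hF : Coh.IsCoh F) {P : Polynomial ℚ}
    (hP : ShStab.IsHilbPoly k X L F P) : P = hilb k L F :=
  hilbPoly_unique k hP (isHilbPoly_hilb k hL hF)

attribute [irreducible] hilb

include hL in
theorem hilb_eq_zero_of_isZero {F : X.Modules} (h : IsZero F) : hilb k L F = 0 :=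
  (eq_hilb k hL (CohDev.isCoh_of_isZero h) (hilbPoly_of_isZero k h)).symm

include hL in
theorem hilb_iso {F G : X.Modules} (e : F ≅ G) (hF : Coh.IsCoh F) : hilb k L F = hilb k L G :=
  eq_hilb k hL (CohDev.isCoh_of_iso e hF) (hilbPoly_iso k e (isHilbPoly_hilb k hL hF))

include hL in
theorem hilb_add {S : ShortComplex X.Modules} (hS : S.ShortExact) (h₁ : Coh.IsCoh S.X₁)
    (h₂ : Coh.IsCoh S.X₂) (h₃ : Coh.IsCoh S.X₃) :
    hilb k L S.X₂ = hilb k L S.X₁ + hilb k L S.X₃ :=
  hilbPoly_add k hL.1 hS h₁ h₂ h₃ (isHilbPoly_hilb k hL h₁) (isHilbPoly_hilb k hL h₂)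
    (isHilbPoly_hilb k hL h₃)

omit [Field k] [X.Over (Spec (CommRingCat.of k))] [IsProper (X ↘ Spec (CommRingCat.of k))] in
theorem isCoh_of_monoCokernel {F E : X.Modules} (ι : F ⟶ E) (hF : Coh.IsCoh F) (hE : Coh.IsCoh E) :
    Coh.IsCoh (cokernel ι) :=
  CohDev.isCoh_cokernel ι hF.1 hE

include k in
theorem isCoh_of_kernel {E G : X.Modules} (π : E ⟶ G) (hE : Coh.IsCoh E) (hG : Coh.IsCoh G) :
    Coh.IsCoh (kernel π) :=
  haveI := EulerChar.isNoetherian k (X := X)
  CohDev.isCoh_kernel' π hE hG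

include hL in
theorem hilb_mono {F E : X.Modules} (ι : F ⟶ E) [Mono ι] (hF : Coh.IsCoh F) (hE : Coh.IsCoh E) :
    hilb k L E = hilb k L F + hilb k L (cokernel ι) :=
  hilb_add k hL (shortExact_of_mono ι) hF hE (isCoh_of_monoCokernel ι hF hE)

include hL in
theorem hilb_epi {E G : X.Modules} (π : E ⟶ G) [Epi π] (hE : Coh.IsCoh E) (hG : Coh.IsCoh G) :
    hilb k L E = hilb k L (kernel π) + hilb k L G :=
  hilb_add k hL (shortExact_of_epi π) (isCoh_of_kernel k π hE hG) hE hG

include hL in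
theorem natDegree_hilb_le {F : X.Modules} (hF : Coh.IsCoh F) {d : ℕ}
    (hd : topologicalKrullDim ↥(CohB1.support F) ≤ (d : WithBot ℕ∞)) : (hilb k L F).natDegree ≤ d :=
  natDegree_le k hL.1 hF (isHilbPoly_hilb k hL hF) hd

include hL in
theorem natDegree_hilb_eq {F : X.Modules} (hF : Coh.IsCoh F) {d : ℕ}
    (hd : topologicalKrullDim ↥(CohB1.support F) = (d : WithBot ℕ∞)) :
    (hilb k L F).natDegree = d :=
  Polynomial.natDegree_eq_of_le_of_coeff_ne_zero (natDegree_hilb_le k hL hF hd.le)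
    (coeff_pos k hL d hF (isHilbPoly_hilb k hL hF) hd).ne'

include hL in
theorem leadingCoeff_hilb_pos {F : X.Modules} (hF : Coh.IsCoh F) (h0 : ¬ IsZero F) :
    0 < (hilb k L F).leadingCoeff := by
  obtain ⟨e, he⟩ := exists_dim k h0
  rw [Polynomial.leadingCoeff, natDegree_hilb_eq k hL hF he]
  exact coeff_pos k hL e hF (isHilbPoly_hilb k hL hF) he

include hL in
theorem hilb_pos {F : X.Modules} (hF : Coh.IsCoh F) (h0 : ¬ IsZero F) :
    PolyLT 0 (hilb k L F) := by
  rw [polyLT_iff, sub_zero]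
  exact leadingCoeff_hilb_pos k hL hF h0

include hL in
theorem hilb_nonneg {F : X.Modules} (hF : Coh.IsCoh F) : PolyLE 0 (hilb k L F) := by
  by_cases h0 : IsZero F
  · rw [hilb_eq_zero_of_isZero k hL h0]
    exact polyLE_refl 0
  · exact polyLE_of_lt (hilb_pos k hL hF h0)

include hL in
theorem isZero_of_hilb_eq_zero {F : X.Modules} (hF : Coh.IsCoh F) (h : hilb k L F = 0) : IsZero F := by
  by_contra h0
  have := leadingCoeff_hilb_pos k hL hF h0
  simp [h] at this

include hL in
theorem alpha_hilb_pos {F : X.Modules} (hF : Coh.IsCoh F) {d : ℕ}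
    (hd : topologicalKrullDim ↥(CohB1.support F) = (d : WithBot ℕ∞)) : 0 < alpha d (hilb k L F) :=
  alpha_pos_iff.2 (coeff_pos k hL d hF (isHilbPoly_hilb k hL hF) hd)

include hL in
theorem alpha_hilb_eq_zero {F : X.Modules} (hF : Coh.IsCoh F) {d : ℕ}
    (hd : topologicalKrullDim ↥(CohB1.support F) < (d : WithBot ℕ∞)) : alpha d (hilb k L F) = 0 := by
  rw [alpha, coeff_eq_zero k hL.1 hF (isHilbPoly_hilb k hL hF) hd le_rfl, mul_zero]

include hL in
theorem alpha_hilb_nonneg {F : X.Modules} (hF : Coh.IsCoh F) {d : ℕ}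
    (hd : topologicalKrullDim ↥(CohB1.support F) ≤ (d : WithBot ℕ∞)) : 0 ≤ alpha d (hilb k L F) := by
  rcases hd.eq_or_lt with h | h
  · exact (alpha_hilb_pos k hL hF h).le
  · exact (alpha_hilb_eq_zero k hL hF h).ge

omit [Field k] [X.Over (Spec (CommRingCat.of k))] [IsProper (X ↘ Spec (CommRingCat.of k))] in
theorem dim_le_of_mono {F E : X.Modules} (ι : F ⟶ E) [Mono ι] {d : WithBot ℕ∞}
    (h : topologicalKrullDim ↥(CohB1.support E) ≤ d) : topologicalKrullDim ↥(CohB1.support F) ≤ d :=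
  (CohDev.dim_mono (CohDev.support_subset_of_mono ι)).trans h

omit [Field k] [X.Over (Spec (CommRingCat.of k))] [IsProper (X ↘ Spec (CommRingCat.of k))] in
theorem dim_le_of_epi {E G : X.Modules} (π : E ⟶ G) [Epi π] {d : WithBot ℕ∞}
    (h : topologicalKrullDim ↥(CohB1.support E) ≤ d) : topologicalKrullDim ↥(CohB1.support G) ≤ d :=
  (CohDev.dim_mono (CohDev.support_subset_of_epi π)).trans h

/-! ### Sub- and quotient inequalities -/

variable {d : ℕ}

include hL in
/-- A submodule of a semistable module. -/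
theorem redLE_of_mono_isSemistable {I G : X.Modules} (hG : ShStab.IsSemistable k X L G d)
    (ι : I ⟶ G) [Mono ι] (hI : Coh.IsCoh I) (h0 : ¬ IsZero I) :
    RedLE d (hilb k L I) (hilb k L G) := by
  by_cases hi : IsIso ι
  · rw [hilb_iso k hL (asIso ι) hI]
    exact redLE_refl d _
  · exact hG.2.2.2 I ι inferInstance hI h0 hi _ _ (isHilbPoly_hilb k hL hI) (isHilbPoly_hilb k hL hG.1)

include hL in
/-- A proper submodule of a stable module. -/
theorem redLT_of_mono_isStable {I G : X.Modules} (hG : ShStab.IsStable k X L G d)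
    (ι : I ⟶ G) [Mono ι] (hI : Coh.IsCoh I) (h0 : ¬ IsZero I) (hi : ¬ IsIso ι) :
    RedLT d (hilb k L I) (hilb k L G) :=
  hG.2.2.2 I ι inferInstance hI h0 hi _ _ (isHilbPoly_hilb k hL hI) (isHilbPoly_hilb k hL hG.1)

include hL in
/-- A nonzero quotient of a semistable module. -/
theorem redLE_of_epi_isSemistable {F I : X.Modules} (hF : ShStab.IsSemistable k X L F d)
    (π : F ⟶ I) [Epi π] (hI : Coh.IsCoh I) (h0 : ¬ IsZero I) :
    RedLE d (hilb k L F) (hilb k L I) := by
  have hK := isCoh_of_kernel k π hF.1 hI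
  by_cases hK0 : IsZero (kernel π)
  · haveI := isIso_of_epi_of_kernel π hK0
    rw [hilb_iso k hL (asIso π) hF.1]
    exact redLE_refl d _
  have hi : ¬ IsIso (kernel.ι π) := fun h => h0 <| (IsZero.iff_id_eq_zero _).2 <| by
    rw [← cancel_epi π, comp_zero, Category.comp_id, ← cancel_epi (kernel.ι π), kernel.condition,
      comp_zero]
  have := hF.2.2.2 (kernel π) (kernel.ι π) inferInstance hK hK0 hi _ _ (isHilbPoly_hilb k hL hK)
    (isHilbPoly_hilb k hL hF.1)
  rw [hilb_epi k hL π hF.1 hI] at this ⊢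
  exact (redLE_add_left_iff _ _).1 this

include hL in
/-- A proper nonzero quotient of a stable module. -/
theorem redLT_of_epi_isStable {F I : X.Modules} (hF : ShStab.IsStable k X L F d)
    (π : F ⟶ I) [Epi π] (hI : Coh.IsCoh I) (h0 : ¬ IsZero I) (hπ : ¬ IsIso π) :
    RedLT d (hilb k L F) (hilb k L I) := by
  have hK := isCoh_of_kernel k π hF.1 hI
  have hK0 : ¬ IsZero (kernel π) := fun h => hπ (isIso_of_epi_of_kernel π h)
  have hi : ¬ IsIso (kernel.ι π) := fun h => h0 <| (IsZero.iff_id_eq_zero _).2 <| by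
    rw [← cancel_epi π, comp_zero, Category.comp_id, ← cancel_epi (kernel.ι π), kernel.condition,
      comp_zero]
  have := hF.2.2.2 (kernel π) (kernel.ι π) inferInstance hK hK0 hi _ _ (isHilbPoly_hilb k hL hK)
    (isHilbPoly_hilb k hL hF.1)
  rw [hilb_epi k hL π hF.1 hI] at this ⊢
  exact (redLT_add_left_iff _ _).1 this

omit [IsProper (X ↘ Spec (CommRingCat.of k))] in
theorem isSemistable_of_isStable {E : X.Modules} (h : ShStab.IsStable k X L E d) :
    ShStab.IsSemistable k X L E d :=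
  ⟨h.1, h.2.1, h.2.2.1, fun F ι a b c e pF pE f g => redLE_of_lt (h.2.2.2 F ι a b c e pF pE f g)⟩

include k in
/-- The image of a nonzero map. -/
theorem exists_image_of_ne_zero {F G : X.Modules} (φ : F ⟶ G) (hφ : φ ≠ 0) (hF : Coh.IsCoh F)
    (hG : Coh.IsCoh G) : ∃ (I : X.Modules) (p : F ⟶ I) (q : I ⟶ G),
      Epi p ∧ Mono q ∧ Coh.IsCoh I ∧ ¬ IsZero I ∧ p ≫ q = φ := by
  haveI := EulerChar.isNoetherian k (X := X)
  refine ⟨Abelian.image φ, Abelian.factorThruImage φ, Abelian.image.ι φ, inferInstance,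
    inferInstance, CohDev.isCoh_image φ hF hG.1, fun h => hφ ?_, Abelian.image.fac φ⟩
  rw [← Abelian.image.fac φ, h.eq_of_src (Abelian.image.ι φ) 0, comp_zero]

end Groth.Agent.HilbPolyX
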